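import Mathlib
import Groth.Prelude.Def_SpSeq
import Groth.Agent.H97.AbutZero

/-!
helper98 library: the edge isomorphism of an `E₂` spectral sequence with an abutment, in existence form.

If on the line `p + q = n` all `E₂^{p,q}` vanish except at `(p₀, n - p₀)`, and all sources and targets of the
differentials through `(p₀, n - p₀)` vanish on `E₂`, then `H^n ≅ E₂^{p₀, n - p₀}`.
-/

set_option autoImplicit false
open CategoryTheory CategoryTheory.Limits

universe v u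

namespace Groth.Agent.H98.SD4

variable {C : Type u} [Category.{v} C] [Abelian C]

/-- the homology of a complex at a spot where both differentials vanish is the object itself -/
noncomputable def homologyIsoOfZeros {ι : Type*} {c : ComplexShape ι} (K : HomologicalComplex C c)
    (j : ι) (h1 : K.d (c.prev j) j = 0) (h2 : K.d j (c.next j) = 0) : K.homology j ≅ K.X j :=
  (ShortComplex.LeftHomologyData.ofZeros (K.sc j) h1 h2).homologyIso

section Pages

variable (E : E₂CohomologicalSpectralSequence C)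

/-- the pages at `pq` are all isomorphic to the second one if the neighbours of `pq` vanish on `E₂` -/
theorem nonempty_page_iso (pq : ℤ × ℤ)
    (hsrc : ∀ r : ℤ, 2 ≤ r → IsZero ((E.page 2 le_rfl).X (pq - (r, 1 - r))))
    (htgt : ∀ r : ℤ, 2 ≤ r → IsZero ((E.page 2 le_rfl).X (pq + (r, 1 - r))))
    (r : ℤ) (hr : 2 ≤ r) : Nonempty ((E.page r hr).X pq ≅ (E.page 2 le_rfl).X pq) := by
  induction r, hr using Int.leInduction with
  | base => exact ⟨Iso.refl _⟩
  | succ r hr ih =>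
    obtain ⟨e⟩ := ih
    have hp : (ComplexShape.up' (⟨r, 1 - r⟩ : ℤ × ℤ)).prev pq = pq - (r, 1 - r) :=
      ComplexShape.prev_eq' _ (show pq - (r, 1 - r) + (r, 1 - r) = pq from sub_add_cancel _ _)
    have hn : (ComplexShape.up' (⟨r, 1 - r⟩ : ℤ × ℤ)).next pq = pq + (r, 1 - r) :=
      ComplexShape.next_eq' _ (show pq + (r, 1 - r) = pq + (r, 1 - r) from rfl)
    have h1 : (E.page r hr).d ((ComplexShape.up' (⟨r, 1 - r⟩ : ℤ × ℤ)).prev pq) pq = 0 := by
      apply IsZero.eq_of_src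
      rw [hp]
      exact Groth.Agent.H97.AbutZero.isZero_page E _ (hsrc r hr) r hr
    have h2 : (E.page r hr).d pq ((ComplexShape.up' (⟨r, 1 - r⟩ : ℤ × ℤ)).next pq) = 0 := by
      apply IsZero.eq_of_tgt
      rw [hn]
      exact Groth.Agent.H97.AbutZero.isZero_page E _ (htgt r hr) r hr
    exact ⟨(E.iso r (r + 1) pq rfl hr).symm ≪≫ homologyIsoOfZeros _ pq h1 h2 ≪≫ e⟩

end Pages

section Fil

/-- an object with a filtration jumping from `⊤` to `⊥` at `p` is its `p`-th graded piece -/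
theorem nonempty_iso_gr (K : SpSeq.FilObj C) (p : ℤ) (h1 : K.fil p = ⊤) (h2 : K.fil (p + 1) = ⊥) :
    Nonempty (K.obj ≅ SpSeq.grPiece K.fil K.anti p) := by
  have hz : IsZero ((K.fil (p + 1) : Subobject K.obj) : C) := by
    rw [h2]
    exact (isZero_zero C).of_iso Subobject.botCoeIsoZero
  have hiso : IsIso (K.fil p).arrow := (Subobject.isIso_arrow_iff_eq_top _).mpr h1
  have hf : (K.fil (p + 1)).ofLE (K.fil p) (K.anti (Int.le_add_one le_rfl)) = 0 := hz.eq_of_src _ _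
  have h3 : IsIso (cokernel.π ((K.fil (p + 1)).ofLE (K.fil p) (K.anti (Int.le_add_one le_rfl)))) :=
    cokernel.π_of_zero hf
  exact ⟨(asIso (K.fil p).arrow).symm ≪≫ @asIso _ _ _ _ _ h3⟩

end Fil

/-- **Edge isomorphism** (existence form). -/
theorem nonempty_abut_iso (E : E₂CohomologicalSpectralSequence C) (H : ℤ → C)
    (a : SpSeq.Abutment E H) (p₀ q₀ : ℤ) (hfin : a.IsFinite (p₀ + q₀))
    (hline : ∀ p q : ℤ, p + q = p₀ + q₀ → p ≠ p₀ → IsZero ((E.page 2 le_rfl).X (p, q)))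
    (hsrc : ∀ r : ℤ, 2 ≤ r → IsZero ((E.page 2 le_rfl).X ((p₀, q₀) - (r, 1 - r))))
    (htgt : ∀ r : ℤ, 2 ≤ r → IsZero ((E.page 2 le_rfl).X ((p₀, q₀) + (r, 1 - r)))) :
    Nonempty (H (p₀ + q₀) ≅ (E.page 2 le_rfl).X (p₀, q₀)) := by
  have hgr : ∀ p : ℤ, p ≠ p₀ → IsZero ((a.filObj (p₀ + q₀)).gr p) := by
    intro p hp
    have h := Groth.Agent.H97.AbutZero.gr_isZero a (p, p₀ + q₀ - p) (hline _ _ (by ring) hp)
    have e : p + (p₀ + q₀ - p) = p₀ + q₀ := by ring
    simp only at h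
    rw [e] at h
    exact h
  have h1 : (a.filObj (p₀ + q₀)).fil p₀ = ⊤ :=
    Groth.Agent.H97.AbutZero.fil_eq_top _ p₀ hfin.1 (fun i hi => hgr i hi.ne)
  have h2 : (a.filObj (p₀ + q₀)).fil (p₀ + 1) = ⊥ :=
    Groth.Agent.H97.AbutZero.fil_eq_bot _ p₀ hfin.2 (fun i hi => hgr i hi.ne')
  obtain ⟨e1⟩ := nonempty_iso_gr (a.filObj (p₀ + q₀)) p₀ h1 h2
  obtain ⟨e2⟩ := nonempty_page_iso E (p₀, q₀) hsrc htgt (a.rk (p₀, q₀)) (a.stat (p₀, q₀)).1
  exact ⟨e1 ≪≫ (a.β (p₀, q₀)).symm ≪≫ e2⟩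

end Groth.Agent.H98.SD4
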